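import Cfsg.Agent.PGroups.MetaOdd.Setup
import Cfsg.Prelude.Def_BaumannBlocks
import Cfsg.Agent.Components.Structure

/-!
Consequences for metacyclic `p`-groups of odd order: centre, abelian subgroups, centralisers, class sizes.
-/

set_option linter.unusedSectionVars false
set_option linter.style.haveILetI false

namespace Cfsg.Lib.MetaOdd

open Subgroup
open scoped commutatorElement

variable {G : Type*} [Group G] [Finite G] {p : ℕ} [hp : Fact p.Prime]

namespace Setup

variable (S : Setup G p) (hp2 : p ≠ 2)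

include S hp2

theorem image_P_top : S.P '' ((⊤ : Subgroup G) : Set G) = Set.univ :=
  Set.eq_univ_of_forall fun X => by
    obtain ⟨x, hx⟩ := S.P_surjective hp2 X
    exact ⟨x, mem_top x, hx⟩

theorem ncard_univ_vec : (Set.univ : Set (Vec p S.n)).ncard = p ^ (2 * S.n) := by
  rw [Set.ncard_univ, Nat.card_prod, Nat.card_zmod, two_mul, pow_add]

theorem card_preimage (T : Set (Vec p S.n)) : Nat.card {g // S.P g ∈ T} = Nat.card (center G) * T.ncard := by
  classical
  choose σ hσ using S.P_surjective hp2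
  rw [← Nat.card_coe_set_eq, ← Nat.card_prod]
  refine Nat.card_congr
    { toFun := fun g => (⟨(σ (S.P g.1))⁻¹ * g.1, (S.P_eq_iff hp2).1 (hσ _)⟩, ⟨S.P g.1, g.2⟩)
      invFun := fun u => ⟨σ u.2.1 * u.1.1, by
        rw [S.P_mul, (S.P_eq_zero_iff hp2 _).2 u.1.2, smul_zero, add_zero, hσ]; exact u.2.2⟩
      left_inv := fun g => Subtype.ext (mul_inv_cancel_left _ _)
      right_inv := fun u => ?_ }
  have e : S.P (σ u.2.1 * u.1.1) = u.2.1 := by
    rw [S.P_mul, (S.P_eq_zero_iff hp2 _).2 u.1.2, smul_zero, add_zero, hσ]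
  exact Prod.ext (Subtype.ext (by simp only [e, inv_mul_cancel_left])) (Subtype.ext e)

theorem card_eq_of_center_le {H : Subgroup G} (hZ : center G ≤ H) :
    Nat.card H = Nat.card (center G) * (S.P '' (H : Set G)).ncard := by
  rw [← S.card_preimage hp2]
  refine Nat.card_congr (Equiv.subtypeEquivRight fun g => ⟨fun hg => ⟨g, hg, rfl⟩, ?_⟩)
  rintro ⟨h, hh, he⟩
  simpa using H.mul_mem hh (hZ ((S.P_eq_iff hp2).1 he))

theorem card_group : Nat.card G = Nat.card (center G) * p ^ (2 * S.n) := by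
  rw [← S.ncard_univ_vec hp2, ← S.image_P_top hp2, ← S.card_eq_of_center_le hp2 le_top, Subgroup.card_top]

theorem commutator_eq : commutator G = zpowers S.c := by
  refine le_antisymm ?_ (zpowers_le.2 ?_)
  · rw [commutator_def, commutator_le]
    intro x _ y _
    obtain ⟨i, j, rfl⟩ := S.gen x
    obtain ⟨k, l, rfl⟩ := S.gen y
    have e : ∀ u v w : ℕ, S.a ^ (i + k + S.d * u) * S.b ^ w * (S.a ^ (i + k + S.d * v) * S.b ^ w)⁻¹ =
        S.c ^ u * (S.c ^ v)⁻¹ := by
      intro u v w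
      rw [mul_inv_rev, ← mul_assoc, mul_inv_cancel_right, ← pow_mul, ← pow_mul, add_comm (i + k) (S.d * u),
        add_comm (i + k) (S.d * v), pow_add S.a (S.d * u), pow_add S.a (S.d * v), mul_inv_rev, mul_assoc, mul_inv_cancel_left]
    have hxy : ⁅S.a ^ i * S.b ^ j, S.a ^ k * S.b ^ l⁆ =
        (S.a ^ i * S.b ^ j * (S.a ^ k * S.b ^ l)) * (S.a ^ k * S.b ^ l * (S.a ^ i * S.b ^ j))⁻¹ := by
      rw [commutatorElement_def]; group
    rw [hxy, rep_mul, rep_mul, add_comm l j, pow_eq S.d j, pow_eq S.d l,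
      show i + k * (1 + S.d * phi S.d j) = i + k + S.d * (k * phi S.d j) by ring,
      show k + i * (1 + S.d * phi S.d l) = i + k + S.d * (i * phi S.d l) by ring, e]
    exact mul_mem (pow_mem (mem_zpowers _) _) (inv_mem (pow_mem (mem_zpowers _) _))
  · have h := commutator_mem_commutator (mem_top S.b) (mem_top S.a)
    rwa [commutatorElement_def, S.conj, pow_add, pow_one, (Commute.self_pow S.a S.d).eq, mul_inv_cancel_right,
      ← commutator_def] at h

theorem card_commutator : Nat.card (commutator G) = p ^ S.n := by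
  rw [S.commutator_eq hp2, Nat.card_zpowers, S.hN]

theorem index_commutator : (commutator G).index = Nat.card (center G) * p ^ S.n := by
  have h := Subgroup.card_mul_index (commutator G)
  rw [S.card_commutator hp2, S.card_group hp2, two_mul, pow_add] at h
  exact Nat.eq_of_mul_eq_mul_left (pow_pos hp.out.pos _) (h.trans (by ring))

theorem index_center : (center G).index = p ^ (2 * S.n) := by
  have h := Subgroup.card_mul_index (center G)
  rw [S.card_group hp2] at h
  exact Nat.eq_of_mul_eq_mul_left Nat.card_pos h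

theorem mem_centralizer_iff_det {H : Subgroup G} {x : G} :
    x ∈ centralizer (H : Set G) ↔ S.P x ∈ perp (S.P '' (H : Set G)) := by
  simp only [mem_centralizer_iff, perp, Set.forall_mem_image, Set.mem_setOf_eq, SetLike.mem_coe]
  exact ⟨fun h y hy => (S.commute_iff y x).1 (h y hy), fun h y hy => ((S.commute_iff y x).2 (h hy)).eq⟩

theorem image_centralizer (H : Subgroup G) :
    S.P '' (centralizer (H : Set G) : Set G) = perp (S.P '' (H : Set G)) := by
  refine Set.Subset.antisymm ?_ fun X hX => ?_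
  · rintro _ ⟨x, hx, rfl⟩
    exact (S.mem_centralizer_iff_det hp2).1 hx
  · obtain ⟨x, rfl⟩ := S.P_surjective hp2 X
    exact ⟨x, (S.mem_centralizer_iff_det hp2).2 hX, rfl⟩

theorem comm_iff_iso (H : Subgroup G) : IsMulCommutative H ↔ Iso (S.P '' (H : Set G)) := by
  constructor
  · rintro h _ ⟨x, hx, rfl⟩ _ ⟨y, hy, rfl⟩
    exact (S.commute_iff x y).1 (congrArg Subtype.val (h.is_comm.comm (⟨x, hx⟩ : H) ⟨y, hy⟩))
  · exact fun h => ⟨⟨fun x y => Subtype.ext ((S.commute_iff x y).2 (h _ ⟨x, x.2, rfl⟩ _ ⟨y, y.2, rfl⟩)).eq⟩⟩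

theorem center_le_of_not_comm (hG : IsPGroup p G) {H : Subgroup G} (hH : ¬ IsMulCommutative H) : center G ≤ H := by
  rw [S.comm_iff_iso hp2] at hH
  obtain ⟨k, hk, hsub⟩ := exists_dvec_subset (S.P_image_isMod hp2 H) hH
  set q := p ^ (S.n - k) with hq
  -- the elements of the centre which are `q`-th powers modulo `H`
  have hpow : ∀ x : G, S.P x ∈ dvec p S.n k → ∃ w ∈ center G, x ^ q * w ^ q ∈ H := by
    intro x hx
    obtain ⟨h, hh, he⟩ := hsub hx
    have hz : x⁻¹ * h ∈ center G := (S.P_eq_iff hp2).1 he.symm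
    refine ⟨x⁻¹ * h, hz, ?_⟩
    rw [← (show Commute x (x⁻¹ * h) from mem_center_iff.1 hz x).mul_pow, mul_inv_cancel_left]
    exact pow_mem hh q
  have hpn : p ^ k * q = p ^ S.n := by rw [hq, ← pow_add, Nat.add_sub_cancel' hk.le]
  have hgen : ∀ z ∈ center G, ∃ w ∈ center G, z * w ^ q ∈ H := by
    intro z hz
    obtain ⟨i, j, rfl⟩ := S.gen z
    have h0 := (S.P_eq_zero_iff hp2 _).2 hz
    rw [S.P_rep rfl, Prod.mk_eq_zero, ZMod.natCast_eq_zero_iff, ZMod.natCast_eq_zero_iff,
      pow_dvd_phi_iff hp2 S.hd] at h0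
    obtain ⟨⟨j', rfl⟩, i', rfl⟩ := h0
    obtain ⟨w₁, hw₁, h₁⟩ := hpow (S.a ^ (p ^ k * i')) (by
      rw [S.P_rep (i := p ^ k * i') (j := 0) (by simp), phi_zero, Nat.cast_zero]
      exact ⟨dvd_zero _, ⟨i', by push_cast; rfl⟩⟩)
    obtain ⟨w₂, hw₂, h₂⟩ := hpow (S.b ^ (p ^ k * j')) (by
      rw [S.P_rep (i := 0) (j := p ^ k * j') (by simp), Nat.cast_zero]
      obtain ⟨m, hm⟩ := (pow_dvd_phi_iff hp2 S.hd k (p ^ k * j')).2 (dvd_mul_right _ _)
      exact ⟨⟨m, by rw [hm]; push_cast; rfl⟩, dvd_zero _⟩)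
    refine ⟨w₁ * w₂, mul_mem hw₁ hw₂, ?_⟩
    rw [← pow_mul, mul_right_comm, hpn] at h₁ h₂
    have e : S.a ^ (p ^ S.n * i') * S.b ^ (p ^ S.n * j') * (w₁ * w₂) ^ q =
        S.a ^ (p ^ S.n * i') * w₁ ^ q * (S.b ^ (p ^ S.n * j') * w₂ ^ q) := by
      have hc : Commute (w₁ ^ q) (S.b ^ (p ^ S.n * j')) :=
        (show Commute (S.b ^ (p ^ S.n * j')) w₁ from mem_center_iff.1 hw₁ _).symm.pow_left q
      rw [(show Commute w₁ w₂ from mem_center_iff.1 hw₂ _).mul_pow]
      simp only [mul_assoc]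
      rw [← mul_assoc (w₁ ^ q), hc.eq, mul_assoc]
    rw [e]
    exact mul_mem h₁ h₂
  intro z hz
  have hiter : ∀ m : ℕ, ∃ w ∈ center G, z * w ^ q ^ m ∈ H := by
    intro m
    induction m with
    | zero => exact ⟨z⁻¹, inv_mem hz, by simp⟩
    | succ m ih =>
      obtain ⟨w, hw, hwH⟩ := ih
      obtain ⟨v, hv, hvH⟩ := hgen w⁻¹ (inv_mem hw)
      -- `w⁻¹ * v ^ q ∈ H`
      refine ⟨v, hv, ?_⟩
      have hc : Commute (w⁻¹) (v ^ q) := ((show Commute w⁻¹ v from mem_center_iff.1 hv _)).pow_right q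
      have h := mul_mem hwH (pow_mem hvH (q ^ m))
      rwa [hc.mul_pow, inv_pow, mul_assoc, mul_inv_cancel_left, ← pow_mul, ← pow_succ'] at h
  obtain ⟨e, he⟩ := IsPGroup.iff_card.1 hG
  obtain ⟨w, -, hw⟩ := hiter e
  have hdvd : p ^ e ∣ q ^ e := by
    rw [hq, ← pow_mul]
    exact pow_dvd_pow p (Nat.le_mul_of_pos_left e (by omega))
  obtain ⟨m, hm⟩ := hdvd
  rwa [hm, pow_mul, ← he, pow_card_eq_one', one_pow, mul_one] at hw

theorem ncard_image_le_sup (H : Subgroup G) : S.P '' ((H ⊔ center G : Subgroup G) : Set G) = S.P '' (H : Set G) := by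
  refine Set.Subset.antisymm ?_ (Set.image_mono (le_sup_left : H ≤ H ⊔ center G))
  rintro _ ⟨x, hx, rfl⟩
  obtain ⟨h, hh, z, hz, rfl⟩ := mem_sup_of_normal_right.1 hx
  exact ⟨h, hh, by rw [S.P_mul, (S.P_eq_zero_iff hp2 z).2 hz, smul_zero, add_zero]⟩

/-- Abelian subgroups are the small ones. -/
theorem comm_iff_card (hG : IsPGroup p G) (H : Subgroup G) :
    IsMulCommutative H ↔ Nat.card H ≤ (commutator G).index := by
  rw [S.index_commutator hp2]
  constructor
  · intro h
    refine (card_le_of_le (le_sup_left : H ≤ H ⊔ center G)).trans ?_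
    rw [S.card_eq_of_center_le hp2 le_sup_right, S.ncard_image_le_sup hp2]
    exact Nat.mul_le_mul_left _ ((ncard_le_iff_iso (S.P_image_isMod hp2 H)).1 ((S.comm_iff_iso hp2 H).1 h))
  · intro h
    by_contra hn
    rw [S.card_eq_of_center_le hp2 (S.center_le_of_not_comm hp2 hG hn),
      Nat.mul_le_mul_left_iff Nat.card_pos, ← ncard_le_iff_iso (S.P_image_isMod hp2 H), ← S.comm_iff_iso hp2] at h
    exact hn h

theorem maximal_comm_iff (hG : IsPGroup p G) (L : Subgroup G) :
    Maximal (fun K : Subgroup G => IsMulCommutative ↥K) L ↔ Nat.card L = (commutator G).index := by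
  constructor
  · intro hL
    refine le_antisymm ((S.comm_iff_card hp2 hG L).1 hL.prop) ?_
    by_contra hlt
    push Not at hlt
    have hgrow : ∀ x ∈ centralizer (L : Set G), x ∈ L := by
      intro x hx
      have hc : IsMulCommutative ↥(closure ((L : Set G) ∪ {x})) := by
        refine isMulCommutative_closure ?_
        rintro u (hu | rfl) v (hv | rfl)
        · exact congrArg Subtype.val (hL.prop.is_comm.comm (⟨u, hu⟩ : L) ⟨v, hv⟩)
        · exact mem_centralizer_iff.1 hx u hu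
        · exact (mem_centralizer_iff.1 hx v hv).symm
        · rfl
      exact hL.le_of_ge hc (fun u hu => subset_closure (Or.inl hu)) (subset_closure (Or.inr rfl))
    have hCL : centralizer (L : Set G) ≤ L := hgrow
    have hZ : center G ≤ L := (center_le_centralizer _).trans hCL
    rw [S.index_commutator hp2, S.card_eq_of_center_le hp2 hZ, Nat.mul_lt_mul_left Nat.card_pos] at hlt
    have hM := S.P_image_isMod hp2 L
    have hle : (perp (S.P '' (L : Set G))).ncard ≤ (S.P '' (L : Set G)).ncard := by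
      rw [← S.image_centralizer hp2]
      exact Set.ncard_le_ncard (Set.image_mono hCL) (Set.toFinite _)
    have h := ncard_mul_perp hM
    rw [two_mul, pow_add] at h
    nlinarith [Nat.mul_le_mul_left (S.P '' (L : Set G)).ncard hle]
  · intro h
    refine ⟨(S.comm_iff_card hp2 hG L).2 h.le, fun K hK hLK => ?_⟩
    exact (Subgroup.eq_of_le_of_card_ge hLK (h ▸ (S.comm_iff_card hp2 hG K).1 hK)).ge

theorem ncard_perp_single {e₁ e₂ : Vec p S.n} (he : det e₁ e₂ = 1) {k : ℕ} (hk : k ≤ S.n) :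
    (perp {(p : R p S.n) ^ k • e₁}).ncard = p ^ (S.n + k) := by
  rw [perp_single he hk, ncard_box he (Nat.zero_le _) (Nat.sub_le _ _)]
  congr 1
  omega

theorem mem_centralizer_singleton_iff_det {g x : G} :
    x ∈ centralizer ({g} : Set G) ↔ S.P x ∈ perp {S.P g} := by
  simp only [mem_centralizer_singleton_iff, perp, Set.mem_singleton_iff, forall_eq, Set.mem_setOf_eq, ← S.commute_iff]
  exact ⟨fun h => h.symm, fun h => h.eq.symm⟩

theorem index_centralizer_singleton {g : G} {e₁ e₂ : Vec p S.n} (he : det e₁ e₂ = 1) {k : ℕ} (hk : k ≤ S.n)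
    (hg : S.P g = (p : R p S.n) ^ k • e₁) : (centralizer ({g} : Set G)).index = p ^ (S.n - k) := by
  have hcard : Nat.card (centralizer ({g} : Set G)) = Nat.card (center G) * p ^ (S.n + k) := by
    rw [S.card_eq_of_center_le hp2 (center_le_centralizer _), ← S.ncard_perp_single hp2 he hk, ← hg]
    congr 2
    refine Set.Subset.antisymm ?_ fun X hX => ?_
    · rintro _ ⟨x, hx, rfl⟩; exact (S.mem_centralizer_singleton_iff_det hp2).1 hx
    · obtain ⟨x, rfl⟩ := S.P_surjective hp2 X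
      exact ⟨x, (S.mem_centralizer_singleton_iff_det hp2).2 hX, rfl⟩
  have h := Subgroup.card_mul_index (centralizer ({g} : Set G))
  rw [hcard, S.card_group hp2, mul_assoc] at h
  refine Nat.eq_of_mul_eq_mul_left (pow_pos hp.out.pos (S.n + k)) ((Nat.eq_of_mul_eq_mul_left Nat.card_pos h).trans ?_)
  rw [← pow_add]
  congr 1
  omega

theorem index_le_iff_dvec (g : G) {s : ℕ} (hs : s ≤ S.n) :
    (centralizer ({g} : Set G)).index ≤ p ^ (S.n - s) ↔ S.P g ∈ dvec p S.n s := by
  obtain ⟨k, hk, e₁, e₂, he, hg⟩ := exists_prim (S.P g)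
  rw [S.index_centralizer_singleton hp2 he hk hg, Nat.pow_le_pow_iff_right hp.out.one_lt, hg, mem_dvec_iff he hs]
  omega

theorem card_index_eq {i : ℕ} (hi : 1 ≤ i) (hin : i ≤ S.n) :
    Nat.card {g : G // (centralizer ({g} : Set G)).index = p ^ i} =
      Nat.card (center G) * (p ^ (2 * i) - p ^ (2 * i - 2)) := by
  have hiff : ∀ g : G, (centralizer ({g} : Set G)).index = p ^ i ↔
      S.P g ∈ dvec p S.n (S.n - i) \ dvec p S.n (S.n - i + 1) := by
    intro g
    obtain ⟨k, hk, e₁, e₂, he, hg⟩ := exists_prim (S.P g)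
    rw [S.index_centralizer_singleton hp2 he hk hg, Set.mem_sdiff, hg, mem_dvec_iff he (Nat.sub_le _ _),
      mem_dvec_iff he (by omega), Nat.pow_right_injective hp.out.two_le |>.eq_iff]
    omega
  rw [Nat.card_congr (Equiv.subtypeEquivRight hiff), S.card_preimage hp2,
    Set.ncard_sdiff (show dvec p S.n (S.n - i + 1) ⊆ dvec p S.n (S.n - i) from fun Y hY => ⟨(pow_dvd_pow _ (Nat.le_succ _)).trans hY.1, (pow_dvd_pow _ (Nat.le_succ _)).trans hY.2⟩)
      (Set.toFinite _), ncard_dvec (Nat.sub_le _ _), ncard_dvec (by omega)]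
  congr 4 <;> omega

theorem mem_closure_powers_iff {s : ℕ} (hs : s ≤ S.n) (g : G) :
    g ∈ closure {x : G | ∃ y : G, y ^ p ^ s = x} ↔ S.P g ∈ dvec p S.n s := by
  constructor
  · intro hg
    induction hg using closure_induction with
    | mem x hx =>
      obtain ⟨y, rfl⟩ := hx
      rw [S.P_pow]
      obtain ⟨m, hm⟩ := (pow_dvd_phi_iff hp2 (Dvd.dvd.mul_right S.hd (S.P y).1.val) s (p ^ s)).2 dvd_rfl
      rw [hm, Nat.cast_mul, Nat.cast_pow]
      refine ⟨?_, ?_⟩
      · rw [Prod.smul_fst, smul_eq_mul, mul_assoc]; exact dvd_mul_right _ _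
      · rw [Prod.smul_snd, smul_eq_mul, mul_assoc]; exact dvd_mul_right _ _
    | one => rw [S.P_one]; exact (dvec_isMod s).zero
    | mul x y _ _ hx hy => rw [S.P_mul]; exact (dvec_isMod s).add hx ((dvec_isMod s).smul _ hy)
    | inv x _ hx =>
      have h := S.P_mul x x⁻¹
      rw [mul_inv_cancel, S.P_one] at h
      obtain ⟨v, hv⟩ := isUnit_iff_exists_inv.1 (S.mu_unit (S.P x))
      have h' : S.P x⁻¹ = (-v) • S.P x := by
        rw [eq_neg_of_add_eq_zero_left h.symm, neg_smul, smul_neg, neg_neg, smul_smul, mul_comm v, hv, one_smul]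
      rw [h']
      exact (dvec_isMod s).smul _ hx
  · intro hg
    have hpn : p ^ S.n = p ^ (S.n - s) * p ^ s := by rw [← pow_add, Nat.sub_add_cancel hs]
    have hmem : ∀ (y : G) (m : ℕ), p ^ s ∣ m → y ^ m ∈ closure {x : G | ∃ y : G, y ^ p ^ s = x} := by
      rintro y m ⟨m, rfl⟩
      exact subset_closure ⟨y ^ m, by rw [← pow_mul, mul_comm]⟩
    obtain ⟨i, j, rfl⟩ := S.gen g
    rw [S.P_rep rfl] at hg
    have hdvd : ∀ m : ℕ, (p : R p S.n) ^ s ∣ (m : R p S.n) → p ^ s ∣ m := by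
      rintro m ⟨w, hw⟩
      rw [← ZMod.natCast_zmod_val w, ← Nat.cast_pow, ← Nat.cast_mul, ZMod.natCast_eq_natCast_iff] at hw
      exact (((hw.of_dvd (pow_dvd_pow p hs)).dvd_iff dvd_rfl)).2 (dvd_mul_right _ _)
    exact mul_mem (hmem S.a i (hdvd i hg.2)) (hmem S.b j ((pow_dvd_phi_iff hp2 S.hd s j).1 (hdvd _ hg.1)))

end Setup

end Cfsg.Lib.MetaOdd
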