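import Mathlib

/-!
Arithmetic for metacyclic `p`-groups of odd order: geometric sums, and submodules of `(ℤ/pⁿ)²` with the determinant form.
-/

namespace Cfsg.Lib.MetaOdd

open Finset

/-- The geometric sum `1 + (1+d) + ⋯ + (1+d)^(k-1)`. -/
def phi (d k : ℕ) : ℕ := ∑ i ∈ range k, (1 + d) ^ i

theorem phi_zero (d : ℕ) : phi d 0 = 0 := sum_range_zero _

theorem phi_one (d : ℕ) : phi d 1 = 1 := by simp [phi]

theorem phi_succ (d k : ℕ) : phi d (k + 1) = phi d k + (1 + d) ^ k := sum_range_succ _ k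

theorem pow_eq (d k : ℕ) : (1 + d) ^ k = 1 + d * phi d k := by
  induction k with
  | zero => simp [phi_zero]
  | succ k ih => rw [phi_succ, mul_add, pow_succ]; linarith [ih, mul_comm ((1 + d) ^ k) d]

theorem phi_add (d k l : ℕ) : phi d (k + l) = phi d k + (1 + d) ^ k * phi d l := by
  simp only [phi, sum_range_add, mul_sum, pow_add]

theorem phi_mul (d q m : ℕ) : phi d (q * m) = phi d q * phi (d * phi d q) m := by
  induction m with
  | zero => simp [phi_zero]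
  | succ m ih => rw [Nat.mul_succ, phi_add, ih, phi_succ, pow_mul, ← pow_eq]; ring

variable {p : ℕ} [hp : Fact p.Prime]

theorem not_dvd_one_add {d : ℕ} (hd : p ∣ d) : ¬ p ∣ 1 + d := fun h =>
  hp.out.not_dvd_one ((Nat.dvd_add_left hd).1 h)

theorem phi_modEq {d : ℕ} (hd : p ∣ d) (k : ℕ) : phi d k ≡ k [MOD p] := by
  induction k with
  | zero => rw [phi_zero]
  | succ k ih =>
    rw [phi_succ, pow_eq]
    refine ih.add ?_
    simpa using (Nat.ModEq.refl 1).add (Nat.modEq_zero_iff_dvd.2 (Dvd.dvd.mul_right hd (phi d k)))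

theorem phi_prime (hp2 : p ≠ 2) {d : ℕ} (hd : p ∣ d) : ∃ w, ¬ p ∣ w ∧ phi d p = p * w := by
  obtain ⟨e, rfl⟩ := hd
  have h := odd_sq_dvd_geom_sum₂_sub (a := (1 : ℤ)) (e : ℤ) (hp.out.odd_of_ne_two hp2)
  simp only [one_pow, mul_one] at h
  have hcast : ((phi (p * e) p : ℕ) : ℤ) = ∑ i ∈ range p, (1 + (p : ℤ) * e) ^ i := by simp [phi]
  rw [← hcast] at h
  obtain ⟨w, hw⟩ : p ∣ phi (p * e) p :=
    Nat.modEq_zero_iff_dvd.1 ((phi_modEq (dvd_mul_right p e) p).trans (Nat.modEq_zero_iff_dvd.2 dvd_rfl))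
  refine ⟨w, fun hdw => hp.out.not_dvd_one ?_, hw⟩
  have h2 : (p : ℤ) ^ 2 ∣ ((phi (p * e) p : ℕ) : ℤ) := by
    obtain ⟨w', rfl⟩ := hdw
    exact ⟨w', by rw [hw]; push_cast; ring⟩
  have h3 : (p : ℤ) ^ 2 ∣ (p : ℤ) := by simpa using dvd_sub h2 h
  have h4 : p ^ 2 ∣ p := by exact_mod_cast h3
  exact Nat.dvd_of_mul_dvd_mul_left hp.out.pos (by rwa [mul_one, ← sq])

theorem phi_ppow (hp2 : p ≠ 2) {d : ℕ} (hd : p ∣ d) (t : ℕ) : ∃ w, ¬ p ∣ w ∧ phi d (p ^ t) = p ^ t * w := by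
  induction t with
  | zero => exact ⟨1, hp.out.not_dvd_one, by simp [phi_one]⟩
  | succ t ih =>
    obtain ⟨w, hw, hwe⟩ := ih
    obtain ⟨v, hv, hve⟩ := phi_prime hp2 (Dvd.dvd.mul_right hd (phi d (p ^ t)))
    exact ⟨w * v, fun h => ((hp.out.dvd_mul).1 h).elim hw hv, by rw [pow_succ, phi_mul, hve, hwe]; ring⟩

theorem pow_dvd_phi_iff (hp2 : p ≠ 2) {d : ℕ} (hd : p ∣ d) (s k : ℕ) : p ^ s ∣ phi d k ↔ p ^ s ∣ k := by
  rcases eq_or_ne k 0 with rfl | hk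
  · simp [phi_zero]
  obtain ⟨t, m, hm, rfl⟩ := Nat.exists_eq_pow_mul_and_not_dvd hk p hp.out.ne_one
  obtain ⟨w, hw, hwe⟩ := phi_ppow hp2 hd t
  have hm' : ¬ p ∣ phi (d * phi d (p ^ t)) m := fun h =>
    hm (((phi_modEq (Dvd.dvd.mul_right hd _) m).dvd_iff dvd_rfl).1 h)
  have key : ∀ u : ℕ, ¬ p ∣ u → (p ^ s ∣ p ^ t * u ↔ s ≤ t) := fun u hu =>
    ⟨fun h => (Nat.pow_dvd_pow_iff_le_right hp.out.one_lt).1
      (((hp.out.coprime_iff_not_dvd.2 hu).pow_left s).dvd_of_dvd_mul_right h),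
      fun h => (pow_dvd_pow p h).trans (dvd_mul_right _ _)⟩
  rw [phi_mul, key m hm, hwe, mul_assoc]
  exact key _ fun h => ((hp.out.dvd_mul).1 h).elim hw (hwe ▸ hm')

/-- The coefficient ring. -/
abbrev R (p n : ℕ) := ZMod (p ^ n)

variable {n : ℕ}

instance : NeZero (p ^ n) := ⟨pow_ne_zero n hp.out.ne_zero⟩

theorem isUnit_cast {u : ℕ} (hu : ¬ p ∣ u) : IsUnit (u : R p n) :=
  (ZMod.isUnit_iff_coprime u (p ^ n)).2 ((hp.out.coprime_iff_not_dvd.2 hu).symm.pow_right n)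

theorem pow_eq_zero_iff' {m : ℕ} : (p : R p n) ^ m = 0 ↔ n ≤ m := by
  rw [← Nat.cast_pow, ZMod.natCast_eq_zero_iff, Nat.pow_dvd_pow_iff_le_right hp.out.one_lt]

theorem exists_ppow (z : R p n) : ∃ k ≤ n, ∃ u : R p n, IsUnit u ∧ z = (p : R p n) ^ k * u := by
  by_cases hz : z = 0
  · exact ⟨n, le_rfl, 1, isUnit_one, by rw [hz, pow_eq_zero_iff'.2 le_rfl, zero_mul]⟩
  have hv : z.val ≠ 0 := fun h => hz ((ZMod.val_eq_zero z).1 h)
  obtain ⟨t, m, hm, he⟩ := Nat.exists_eq_pow_mul_and_not_dvd hv p hp.out.ne_one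
  refine ⟨t, ?_, m, isUnit_cast hm, by conv_lhs => rw [← ZMod.natCast_zmod_val z, he, Nat.cast_mul, Nat.cast_pow]⟩
  have hlt : p ^ t * m < p ^ n := he ▸ ZMod.val_lt z
  have hm0 : 0 < m := Nat.pos_of_ne_zero fun h => hm (h ▸ dvd_zero p)
  exact ((Nat.pow_lt_pow_iff_right hp.out.one_lt).1 (lt_of_le_of_lt (Nat.le_mul_of_pos_right _ hm0) hlt)).le

theorem le_of_pow_dvd {a b : ℕ} (ha : a ≤ n) {u : R p n} (hu : IsUnit u)
    (h : (p : R p n) ^ a ∣ (p : R p n) ^ b * u) : a ≤ b := by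
  by_contra hlt
  obtain ⟨w, hw⟩ := h
  have h0 : (p : R p n) ^ (n - a + b) * u = 0 := by
    rw [pow_add, mul_assoc, hw, ← mul_assoc, ← pow_add, Nat.sub_add_cancel ha, pow_eq_zero_iff'.2 le_rfl, zero_mul]
  rw [hu.mul_left_eq_zero, pow_eq_zero_iff'] at h0
  omega

theorem pow_mul_eq_zero_iff {i : ℕ} (hi : i ≤ n) {z : R p n} :
    (p : R p n) ^ i * z = 0 ↔ (p : R p n) ^ (n - i) ∣ z := by
  constructor
  · intro h
    obtain ⟨k, hk, u, hu, rfl⟩ := exists_ppow z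
    rw [← mul_assoc, ← pow_add, hu.mul_left_eq_zero, pow_eq_zero_iff'] at h
    exact Dvd.dvd.mul_right (pow_dvd_pow _ (by omega)) u
  · rintro ⟨w, rfl⟩
    rw [← mul_assoc, ← pow_add, pow_eq_zero_iff'.2 (by omega), zero_mul]

theorem card_multiples {i : ℕ} (hi : i ≤ n) : Nat.card {z : R p n // (p : R p n) ^ i ∣ z} = p ^ (n - i) := by
  have e : ∀ z : R p n, z ∈ AddSubgroup.zmultiples ((p ^ i : ℕ) : R p n) ↔ (p : R p n) ^ i ∣ z := by
    intro z
    rw [AddSubgroup.mem_zmultiples_iff, Nat.cast_pow]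
    constructor
    · rintro ⟨k, rfl⟩
      exact ⟨k, by rw [zsmul_eq_mul, mul_comm]⟩
    · rintro ⟨w, rfl⟩
      exact ⟨(w.val : ℤ), by rw [zsmul_eq_mul, Int.cast_natCast, ZMod.natCast_zmod_val, mul_comm]⟩
  rw [← Nat.card_congr (Equiv.subtypeEquivRight e), Nat.card_zmultiples,
    ZMod.addOrderOf_coe _ (pow_ne_zero n hp.out.ne_zero), Nat.gcd_eq_right (pow_dvd_pow p hi), Nat.pow_div hi hp.out.pos]

theorem phi_cast_surjective (hp2 : p ≠ 2) {d : ℕ} (hd : p ∣ d) (z : R p n) : ∃ k, (phi d k : R p n) = z := by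
  have hinj : ∀ k l : ℕ, k ≤ l → l < p ^ n → (phi d k : R p n) = phi d l → k = l := by
    intro k l hkl hl h
    obtain ⟨m, rfl⟩ := Nat.exists_eq_add_of_le hkl
    have hu : IsUnit (((1 + d) ^ k : ℕ) : R p n) := isUnit_cast fun h' => not_dvd_one_add hd (hp.out.dvd_of_dvd_pow h')
    rw [phi_add, Nat.cast_add, left_eq_add, Nat.cast_mul, hu.mul_right_eq_zero, ZMod.natCast_eq_zero_iff,
      pow_dvd_phi_iff hp2 hd] at h
    have := Nat.eq_zero_of_dvd_of_lt h (by omega)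
    omega
  have hb : Function.Injective fun k : Fin (p ^ n) => (phi d k : R p n) := by
    intro k l h
    rcases le_total (k : ℕ) l with hkl | hkl
    · exact Fin.ext (hinj _ _ hkl l.2 h)
    · exact Fin.ext (hinj _ _ hkl k.2 h.symm).symm
  obtain ⟨k, hk⟩ := ((Fintype.bijective_iff_injective_and_card _).2 ⟨hb, by simp⟩).2 z
  exact ⟨k, hk⟩

/-! ### Submodules of the plane -/

abbrev Vec (p n : ℕ) := R p n × R p n

/-- The determinant. -/
def det (X Y : Vec p n) : R p n := X.1 * Y.2 - X.2 * Y.1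

def Iso (M : Set (Vec p n)) : Prop := ∀ X ∈ M, ∀ Y ∈ M, det X Y = 0

def perp (M : Set (Vec p n)) : Set (Vec p n) := {Y | ∀ X ∈ M, det X Y = 0}

structure IsMod (M : Set (Vec p n)) : Prop where
  zero : (0 : Vec p n) ∈ M
  add : ∀ {X Y}, X ∈ M → Y ∈ M → X + Y ∈ M
  smul : ∀ (s : R p n) {X}, X ∈ M → s • X ∈ M

def box (e₁ e₂ : Vec p n) (i j : ℕ) : Set (Vec p n) :=
  {Y | (p : R p n) ^ i ∣ det Y e₂ ∧ (p : R p n) ^ j ∣ det e₁ Y}

/-- The vectors divisible by `p ^ s`. -/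
def dvec (p n s : ℕ) : Set (Vec p n) := {Y | (p : R p n) ^ s ∣ Y.1 ∧ (p : R p n) ^ s ∣ Y.2}

theorem det_smul_left (s : R p n) (X Y : Vec p n) : det (s • X) Y = s * det X Y := by
  simp only [det, Prod.smul_fst, Prod.smul_snd, smul_eq_mul]; ring

theorem det_smul_right (s : R p n) (X Y : Vec p n) : det X (s • Y) = s * det X Y := by
  simp only [det, Prod.smul_fst, Prod.smul_snd, smul_eq_mul]; ring

theorem det_self (X : Vec p n) : det X X = 0 := by simp only [det]; ring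

variable {e₁ e₂ : Vec p n}

theorem cramer (he : det e₁ e₂ = 1) (Y : Vec p n) : Y = det Y e₂ • e₁ + det e₁ Y • e₂ := by
  simp only [det] at he ⊢
  ext <;> simp only [Prod.fst_add, Prod.snd_add, Prod.smul_fst, Prod.smul_snd, smul_eq_mul]
  · linear_combination -Y.1 * he
  · linear_combination -Y.2 * he

theorem det_eq (he : det e₁ e₂ = 1) (X Y : Vec p n) :
    det X Y = det X e₂ * det e₁ Y - det e₁ X * det Y e₂ := by
  simp only [det] at he ⊢
  linear_combination -(X.1 * Y.2 - X.2 * Y.1) * he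

theorem coord_left (he : det e₁ e₂ = 1) (s t : R p n) : det (s • e₁ + t • e₂) e₂ = s := by
  simp only [det, Prod.fst_add, Prod.snd_add, Prod.smul_fst, Prod.smul_snd, smul_eq_mul] at he ⊢
  linear_combination s * he

theorem coord_right (he : det e₁ e₂ = 1) (s t : R p n) : det e₁ (s • e₁ + t • e₂) = t := by
  simp only [det, Prod.fst_add, Prod.snd_add, Prod.smul_fst, Prod.smul_snd, smul_eq_mul] at he ⊢
  linear_combination t * he

theorem mem_box (he : det e₁ e₂ = 1) {i j : ℕ} {s t : R p n} :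
    s • e₁ + t • e₂ ∈ box e₁ e₂ i j ↔ (p : R p n) ^ i ∣ s ∧ (p : R p n) ^ j ∣ t := by
  simp only [box, Set.mem_setOf_eq, coord_left he, coord_right he]

theorem ncard_box (he : det e₁ e₂ = 1) {i j : ℕ} (hi : i ≤ n) (hj : j ≤ n) :
    (box e₁ e₂ i j).ncard = p ^ ((n - i) + (n - j)) := by
  rw [← Nat.card_coe_set_eq, pow_add, ← card_multiples hi, ← card_multiples hj, ← Nat.card_prod]
  refine Nat.card_congr
    { toFun := fun Y => (⟨det Y.1 e₂, Y.2.1⟩, ⟨det e₁ Y.1, Y.2.2⟩)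
      invFun := fun u => ⟨u.1.1 • e₁ + u.2.1 • e₂, (mem_box he).2 ⟨u.1.2, u.2.2⟩⟩
      left_inv := fun Y => Subtype.ext (cramer he Y.1).symm
      right_inv := fun u => Prod.ext (Subtype.ext (coord_left he _ _)) (Subtype.ext (coord_right he _ _)) }

theorem perp_box (he : det e₁ e₂ = 1) {i j : ℕ} (hi : i ≤ n) (hj : j ≤ n) :
    perp (box e₁ e₂ i j) = box e₁ e₂ (n - j) (n - i) := by
  ext Y
  constructor
  · intro h
    have h1 := h ((p : R p n) ^ i • e₁ + (0 : R p n) • e₂) ((mem_box he).2 ⟨dvd_rfl, dvd_zero _⟩)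
    have h2 := h ((0 : R p n) • e₁ + (p : R p n) ^ j • e₂) ((mem_box he).2 ⟨dvd_zero _, dvd_rfl⟩)
    rw [det_eq he, coord_left he, coord_right he, zero_mul, sub_zero, pow_mul_eq_zero_iff hi] at h1
    rw [det_eq he, coord_left he, coord_right he, zero_mul, zero_sub, neg_eq_zero, pow_mul_eq_zero_iff hj] at h2
    exact ⟨h2, h1⟩
  · rintro ⟨⟨u, hu⟩, v, hv⟩ X ⟨⟨s, hs⟩, t, ht⟩
    rw [det_eq he, hu, hv, hs, ht]
    have e1 : (p : R p n) ^ i * (p : R p n) ^ (n - i) = 0 := by rw [← pow_add, pow_eq_zero_iff']; omega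
    have e2 : (p : R p n) ^ j * (p : R p n) ^ (n - j) = 0 := by rw [← pow_add, pow_eq_zero_iff']; omega
    linear_combination s * v * e1 - t * u * e2

theorem iso_box_iff (he : det e₁ e₂ = 1) {i j : ℕ} : Iso (box e₁ e₂ i j) ↔ n ≤ i + j := by
  constructor
  · intro h
    have := h ((p : R p n) ^ i • e₁ + (0 : R p n) • e₂) ((mem_box he).2 ⟨dvd_rfl, dvd_zero _⟩)
      ((0 : R p n) • e₁ + (p : R p n) ^ j • e₂) ((mem_box he).2 ⟨dvd_zero _, dvd_rfl⟩)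
    rwa [det_eq he, coord_left he, coord_right he, coord_left he, coord_right he, zero_mul, sub_zero, ← pow_add,
      pow_eq_zero_iff'] at this
  · rintro h X ⟨⟨s, hs⟩, t, ht⟩ Y ⟨⟨u, hu⟩, v, hv⟩
    rw [det_eq he, hs, ht, hu, hv]
    have e : (p : R p n) ^ i * (p : R p n) ^ j = 0 := by rw [← pow_add, pow_eq_zero_iff']; exact h
    linear_combination (s * v - t * u) * e

theorem exists_prim (X : Vec p n) :
    ∃ k ≤ n, ∃ e₁ e₂ : Vec p n, det e₁ e₂ = 1 ∧ X = (p : R p n) ^ k • e₁ := by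
  obtain ⟨k₁, hk₁, u₁, hu₁, h₁⟩ := exists_ppow X.1
  obtain ⟨k₂, hk₂, u₂, hu₂, h₂⟩ := exists_ppow X.2
  obtain ⟨v₁, hv₁⟩ := isUnit_iff_exists_inv.1 hu₁
  obtain ⟨v₂, hv₂⟩ := isUnit_iff_exists_inv.1 hu₂
  rcases le_total k₁ k₂ with h | h
  · refine ⟨k₁, hk₁, (u₁, (p : R p n) ^ (k₂ - k₁) * u₂), (0, v₁), by simp only [det, mul_zero, sub_zero]; exact hv₁, ?_⟩
    ext
    · simpa using h₁
    · simp only [Prod.smul_snd, smul_eq_mul, ← mul_assoc, ← pow_add, Nat.add_sub_cancel' h]; exact h₂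
  · refine ⟨k₂, hk₂, ((p : R p n) ^ (k₁ - k₂) * u₁, u₂), (-v₂, 0),
      by simp only [det, mul_zero, zero_sub, mul_neg, neg_neg]; exact hv₂, ?_⟩
    ext
    · simp only [Prod.smul_fst, smul_eq_mul, ← mul_assoc, ← pow_add, Nat.add_sub_cancel' h]; exact h₁
    · simpa using h₂

theorem mem_dvec_iff (he : det e₁ e₂ = 1) {k s : ℕ} (hs : s ≤ n) :
    (p : R p n) ^ k • e₁ ∈ dvec p n s ↔ s ≤ k := by
  constructor
  · rintro ⟨h1, h2⟩
    refine le_of_pow_dvd hs (isUnit_one (M := R p n)) ?_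
    rw [mul_one, ← mul_one ((p : R p n) ^ k), ← he]
    simp only [Prod.smul_fst, Prod.smul_snd, smul_eq_mul] at h1 h2
    rw [det, mul_sub, ← mul_assoc, ← mul_assoc]
    exact dvd_sub (Dvd.dvd.mul_right h1 _) (Dvd.dvd.mul_right h2 _)
  · intro h
    exact ⟨Dvd.dvd.mul_right (pow_dvd_pow _ h) _, Dvd.dvd.mul_right (pow_dvd_pow _ h) _⟩

theorem ncard_dvec {s : ℕ} (hs : s ≤ n) : (dvec p n s).ncard = p ^ (2 * (n - s)) := by
  rw [← Nat.card_coe_set_eq, two_mul, pow_add]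
  conv_rhs => rw [← card_multiples hs, ← Nat.card_prod]
  exact Nat.card_congr
    { toFun := fun Y => (⟨Y.1.1, Y.2.1⟩, ⟨Y.1.2, Y.2.2⟩)
      invFun := fun u => ⟨(u.1.1, u.2.1), u.1.2, u.2.2⟩
      left_inv := fun _ => rfl
      right_inv := fun _ => rfl }

theorem dvec_isMod (s : ℕ) : IsMod (dvec p n s) :=
  ⟨⟨dvd_zero _, dvd_zero _⟩, fun hX hY => ⟨dvd_add hX.1 hY.1, dvd_add hX.2 hY.2⟩,
    fun c _ hX => ⟨Dvd.dvd.mul_left hX.1 c, Dvd.dvd.mul_left hX.2 c⟩⟩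

theorem exists_box {M : Set (Vec p n)} (hM : IsMod M) :
    ∃ e₁ e₂ : Vec p n, det e₁ e₂ = 1 ∧ ∃ i ≤ n, ∃ j ≤ n, M = box e₁ e₂ i j := by
  classical
  set i := Nat.findGreatest (fun i => M ⊆ dvec p n i) n with hi
  have hin : i ≤ n := Nat.findGreatest_le n
  have hMi : M ⊆ dvec p n i :=
    Nat.findGreatest_spec (P := fun i => M ⊆ dvec p n i) (Nat.zero_le n) fun X _ => by simp [dvec]
  have hdvd : ∀ e e' : Vec p n, ∀ Y ∈ M, (p : R p n) ^ i ∣ det Y e' ∧ (p : R p n) ^ i ∣ det e Y := fun e e' Y hY =>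
    ⟨dvd_sub (Dvd.dvd.mul_right (hMi hY).1 _) (Dvd.dvd.mul_right (hMi hY).2 _),
      dvd_sub (Dvd.dvd.mul_left (hMi hY).2 _) (Dvd.dvd.mul_left (hMi hY).1 _)⟩
  obtain ⟨e₁, e₂, he, hX⟩ : ∃ e₁ e₂ : Vec p n, det e₁ e₂ = 1 ∧ (p : R p n) ^ i • e₁ ∈ M := by
    rcases hin.eq_or_lt with h | h
    · refine ⟨(1, 0), (0, 1), by simp [det], ?_⟩
      rw [h, pow_eq_zero_iff'.2 le_rfl, zero_smul]
      exact hM.zero
    · have hnot : ¬ M ⊆ dvec p n (i + 1) := Nat.findGreatest_is_greatest (Nat.lt_succ_self i) h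
      obtain ⟨X, hXM, hX⟩ := Set.not_subset.1 hnot
      obtain ⟨k, -, e₁, e₂, he, rfl⟩ := exists_prim X
      have h1 := (mem_dvec_iff he hin).1 (hMi hXM)
      have h2 : ¬ i + 1 ≤ k := fun hle => hX ((mem_dvec_iff he h).2 hle)
      obtain rfl : k = i := by omega
      exact ⟨e₁, e₂, he, hXM⟩
  have hT : ∃ j, (p : R p n) ^ j • e₂ ∈ M := ⟨n, by rw [pow_eq_zero_iff'.2 le_rfl, zero_smul]; exact hM.zero⟩
  have hjn : Nat.find hT ≤ n := Nat.find_le (by rw [pow_eq_zero_iff'.2 le_rfl, zero_smul]; exact hM.zero)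
  refine ⟨e₁, e₂, he, i, hin, Nat.find hT, hjn, Set.Subset.antisymm (fun Y hY => ?_) ?_⟩
  · refine ⟨(hdvd e₁ e₂ Y hY).1, ?_⟩
    obtain ⟨s, hs⟩ := (hdvd e₁ e₂ Y hY).1
    have hB : det e₁ Y • e₂ ∈ M := by
      have h := hM.add hY (hM.smul (-s) hX)
      rwa [cramer he Y, hs, smul_smul, add_comm _ ((-s * (p : R p n) ^ i) • e₁), ← add_assoc, ← add_smul,
        show -s * (p : R p n) ^ i + (p : R p n) ^ i * s = 0 by ring, zero_smul, zero_add] at h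
    obtain ⟨k, -, u, hu, hk⟩ := exists_ppow (det e₁ Y)
    obtain ⟨v, hv⟩ := isUnit_iff_exists_inv.1 hu
    have hkM : (p : R p n) ^ k • e₂ ∈ M := by
      have h := hM.smul v hB
      rwa [hk, smul_smul, mul_comm v, mul_assoc, hv, mul_one] at h
    rw [hk]
    exact Dvd.dvd.mul_right (pow_dvd_pow _ (Nat.find_le hkM)) u
  · rintro Y ⟨⟨s, hs⟩, t, ht⟩
    rw [cramer he Y, hs, ht, mul_comm _ s, mul_comm _ t, ← smul_smul, ← smul_smul]
    exact hM.add (hM.smul s hX) (hM.smul t (Nat.find_spec hT))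

theorem ncard_le_iff_iso {M : Set (Vec p n)} (hM : IsMod M) : Iso M ↔ M.ncard ≤ p ^ n := by
  obtain ⟨e₁, e₂, he, i, hi, j, hj, rfl⟩ := exists_box hM
  rw [iso_box_iff he, ncard_box he hi hj, Nat.pow_le_pow_iff_right hp.out.one_lt]
  omega

theorem ncard_mul_perp {M : Set (Vec p n)} (hM : IsMod M) : M.ncard * (perp M).ncard = p ^ (2 * n) := by
  obtain ⟨e₁, e₂, he, i, hi, j, hj, rfl⟩ := exists_box hM
  rw [perp_box he hi hj, ncard_box he hi hj, ncard_box he (Nat.sub_le _ _) (Nat.sub_le _ _), ← pow_add]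
  congr 1
  omega

theorem perp_perp {M : Set (Vec p n)} (hM : IsMod M) : perp (perp M) = M := by
  obtain ⟨e₁, e₂, he, i, hi, j, hj, rfl⟩ := exists_box hM
  rw [perp_box he hi hj, perp_box he (Nat.sub_le _ _) (Nat.sub_le _ _), Nat.sub_sub_self hi, Nat.sub_sub_self hj]

theorem perp_subset_of_not_iso {M : Set (Vec p n)} (hM : IsMod M) (h : ¬ Iso M) : perp M ⊆ M := by
  obtain ⟨e₁, e₂, he, i, hi, j, hj, rfl⟩ := exists_box hM
  rw [iso_box_iff he] at h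
  rw [perp_box he hi hj]
  exact fun Y hY => ⟨(pow_dvd_pow _ (by omega)).trans hY.1, (pow_dvd_pow _ (by omega)).trans hY.2⟩

theorem exists_dvec_subset {M : Set (Vec p n)} (hM : IsMod M) (h : ¬ Iso M) : ∃ k < n, dvec p n k ⊆ M := by
  obtain ⟨e₁, e₂, he, i, hi, j, hj, rfl⟩ := exists_box hM
  rw [iso_box_iff he] at h
  refine ⟨max i j, by omega, fun Y hY => ⟨?_, ?_⟩⟩
  · exact (pow_dvd_pow _ (le_max_left i j)).trans
      (dvd_sub (Dvd.dvd.mul_right hY.1 _) (Dvd.dvd.mul_right hY.2 _))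
  · exact (pow_dvd_pow _ (le_max_right i j)).trans
      (dvd_sub (Dvd.dvd.mul_left hY.2 _) (Dvd.dvd.mul_left hY.1 _))

theorem perp_single (he : det e₁ e₂ = 1) {k : ℕ} (hk : k ≤ n) :
    perp {(p : R p n) ^ k • e₁} = box e₁ e₂ 0 (n - k) := by
  ext Y
  simp only [perp, box, Set.mem_singleton_iff, forall_eq, Set.mem_setOf_eq, det_smul_left, pow_zero, isUnit_one.dvd,
    true_and, pow_mul_eq_zero_iff hk]

end Cfsg.Lib.MetaOdd
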