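import Cfsg.Agent.PGroups.MetaOdd.Setup

/-!
A metacyclic `p`-group of odd order is a product of two cyclic subgroups meeting trivially.
-/

namespace Cfsg.Lib.MetaOdd

open Subgroup

variable {G : Type*} [Group G] {p : ℕ} [hp : Fact p.Prime]

theorem pow_apow_bpow (S : Setup G p) (s q k : ℕ) :
    (S.a ^ s * S.b ^ q) ^ k = S.a ^ (s * phi (S.d * phi S.d q) k) * S.b ^ (q * k) := by
  induction k with
  | zero => simp [phi_zero]
  | succ k ih =>
    rw [pow_succ, ih, S.rep_mul, phi_succ, ← pow_eq, ← pow_mul, Nat.mul_succ, mul_add]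

theorem exists_mul_add_dvd {α m u : ℕ} (hu : ¬ p ∣ u) : ∃ s, p ^ α ∣ s * u + m := by
  obtain ⟨v, hv⟩ := isUnit_iff_exists_inv.1 (isUnit_cast (n := α) hu)
  refine ⟨(-(m : R p α) * v).val, ?_⟩
  rw [← ZMod.natCast_eq_zero_iff, Nat.cast_add, Nat.cast_mul, ZMod.natCast_zmod_val, mul_assoc, mul_comm v, hv,
    mul_one, neg_add_cancel]

theorem exists_cyclic_factorization [Finite G] (hp2 : p ≠ 2) (hG : IsPGroup p G) (hmc : Cfsg.IsMetacyclic G) :
    ∃ A B : Subgroup G, IsCyclic ↥A ∧ IsCyclic ↥B ∧ A ⊓ B = ⊥ ∧ Nat.card ↥A * Nat.card ↥B = Nat.card G := by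
  classical
  obtain ⟨S⟩ := exists_setup hG hmc
  have hp1 := hp.out.one_lt
  have hnA : (zpowers S.a).Normal := by
    refine ⟨fun x hx g => ?_⟩
    obtain ⟨k, hk⟩ := mem_powers_iff_mem_zpowers.2 hx
    obtain ⟨m, hm⟩ := S.conj_apow g k
    rw [← show S.a ^ k = x from hk, hm]
    exact pow_mem (mem_zpowers _) m
  obtain ⟨α, hα⟩ := IsPGroup.iff_orderOf.1 hG S.a
  -- the order of the image of `b`
  have hex : ∃ β, S.b ^ p ^ β ∈ zpowers S.a := (hG S.b).imp fun k hk => by rw [hk]; exact one_mem _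
  set β := Nat.find hex with hβ
  have hβmem : S.b ^ p ^ β ∈ zpowers S.a := Nat.find_spec hex
  have hord : orderOf ((S.b : G) : G ⧸ zpowers S.a) = p ^ β := by
    have hd' : orderOf ((S.b : G) : G ⧸ zpowers S.a) ∣ p ^ β :=
      orderOf_dvd_of_pow_eq_one (by rw [← QuotientGroup.mk_pow]; exact (QuotientGroup.eq_one_iff _).2 hβmem)
    obtain ⟨k, hk, hk'⟩ := (Nat.dvd_prime_pow hp.out).1 hd'
    have h1 : S.b ^ p ^ k ∈ zpowers S.a := by
      rw [← QuotientGroup.eq_one_iff, QuotientGroup.mk_pow, ← hk', pow_orderOf_eq_one]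
    rw [hk', show k = β from le_antisymm hk (Nat.find_min' hex h1)]
  have hdvd : ∀ e, S.b ^ e ∈ zpowers S.a → p ^ β ∣ e := fun e he => by
    rw [← hord]
    exact orderOf_dvd_of_pow_eq_one (by rw [← QuotientGroup.mk_pow]; exact (QuotientGroup.eq_one_iff _).2 he)
  have hcardG : Nat.card G = p ^ α * p ^ β := by
    rw [← Subgroup.card_mul_index (zpowers S.a), Nat.card_zpowers, hα, ← hord, ← Nat.card_zpowers,
      Subgroup.index_eq_card]
    congr 1
    have htop : zpowers ((S.b : G) : G ⧸ zpowers S.a) = ⊤ := by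
      rw [eq_top_iff]
      intro q _
      induction q using QuotientGroup.induction_on with
      | H x =>
        obtain ⟨i, j, rfl⟩ := S.gen x
        rw [QuotientGroup.mk_mul, (QuotientGroup.eq_one_iff _).2 (pow_mem (mem_zpowers _) i), one_mul, QuotientGroup.mk_pow]
        exact pow_mem (mem_zpowers _) j
    rw [htop, Subgroup.card_top]
  obtain ⟨m, hm⟩ := mem_powers_iff_mem_zpowers.2 hβmem
  replace hm : S.b ^ p ^ β = S.a ^ m := hm.symm
  have hA1 : ∀ M, S.a ^ M = 1 ↔ p ^ α ∣ M := fun M => by rw [← orderOf_dvd_iff_pow_eq_one, hα]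
  by_cases hcase : p ^ β ∣ m
  · -- a complement to `zpowers S.a`
    obtain ⟨m', rfl⟩ := hcase
    obtain ⟨u, hu, hue⟩ := phi_ppow hp2 (Dvd.dvd.mul_right S.hd (phi S.d 1)) β
    obtain ⟨s, hs⟩ := exists_mul_add_dvd (α := α) (m := m') hu
    set y := S.a ^ s * S.b ^ 1 with hy
    have hy1 : y ^ p ^ β = 1 := by
      rw [hy, pow_apow_bpow, hue, one_mul, hm, ← pow_add, hA1,
        show s * (p ^ β * u) + p ^ β * m' = p ^ β * (s * u + m') by ring]
      exact Dvd.dvd.mul_left hs _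
    have hyA : ∀ k, y ^ k ∈ zpowers S.a → p ^ β ∣ k := by
      intro k hk
      rw [hy, pow_apow_bpow, one_mul] at hk
      exact hdvd k ((Subgroup.mul_mem_cancel_left _ (pow_mem (mem_zpowers _) _)).1 hk)
    refine ⟨zpowers S.a, zpowers y, inferInstance, inferInstance, ?_, ?_⟩
    · rw [eq_bot_iff]
      rintro x ⟨hxA, hxy⟩
      obtain ⟨k, hk⟩ := mem_powers_iff_mem_zpowers.2 hxy
      replace hk : y ^ k = x := hk
      obtain ⟨k', rfl⟩ := hyA k (hk ▸ hxA)
      rw [mem_bot, ← hk, pow_mul, hy1, one_pow]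
    · rw [Nat.card_zpowers, Nat.card_zpowers, hα, hcardG]
      congr 1
      exact Nat.dvd_antisymm (orderOf_dvd_of_pow_eq_one hy1) (hyA _ (by rw [pow_orderOf_eq_one]; exact one_mem _))
  · have hm0 : m ≠ 0 := fun h => hcase (h ▸ dvd_zero _)
    obtain ⟨σ, t, ht, rfl⟩ := Nat.exists_eq_pow_mul_and_not_dvd hm0 p hp.out.ne_one
    have hσβ : σ < β := by
      by_contra h
      exact hcase ((pow_dvd_pow p (by omega)).trans (dvd_mul_right _ _))
    by_cases hσα : α ≤ σ
    · -- `b` generates a complement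
      have hb1 : S.b ^ p ^ β = 1 := by
        rw [hm, hA1]; exact (pow_dvd_pow p hσα).trans (dvd_mul_right _ _)
      refine ⟨zpowers S.a, zpowers S.b, inferInstance, inferInstance, ?_, ?_⟩
      · rw [eq_bot_iff]
        rintro x ⟨hxA, hxb⟩
        obtain ⟨k, hk⟩ := mem_powers_iff_mem_zpowers.2 hxb
        replace hk : S.b ^ k = x := hk
        obtain ⟨k', rfl⟩ := hdvd k (hk ▸ hxA)
        rw [mem_bot, ← hk, pow_mul, hb1, one_pow]
      · rw [Nat.card_zpowers, Nat.card_zpowers, hα, hcardG]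
        congr 1
        exact Nat.dvd_antisymm (orderOf_dvd_of_pow_eq_one hb1) (hdvd _ (by rw [pow_orderOf_eq_one]; exact one_mem _))
    push Not at hσα
    set q := p ^ (β - σ) with hq
    have hqσ : q * p ^ σ = p ^ β := by rw [hq, ← pow_add, Nat.sub_add_cancel hσβ.le]
    obtain ⟨u, hu, hue⟩ := phi_ppow hp2 (Dvd.dvd.mul_right S.hd (phi S.d q)) σ
    obtain ⟨s, hs⟩ := exists_mul_add_dvd (α := α) (m := t) hu
    have hs' : ¬ p ∣ s := fun h => ht ((Nat.dvd_add_right (Dvd.dvd.mul_right h u)).1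
      ((dvd_pow_self p (by omega)).trans hs))
    set y := S.a ^ s * S.b ^ q with hy
    have hy1 : y ^ p ^ σ = 1 := by
      rw [hy, pow_apow_bpow, hue, hqσ, hm, ← pow_add, hA1,
        show s * (p ^ σ * u) + p ^ σ * t = p ^ σ * (s * u + t) by ring]
      exact Dvd.dvd.mul_left hs _
    have hinter : ∀ k, y ^ k ∈ zpowers S.b → p ^ σ ∣ k := by
      intro k hk
      rw [hy, pow_apow_bpow] at hk
      have hk' := (Subgroup.mul_mem_cancel_right _ (pow_mem (mem_zpowers S.b) (q * k))).1 hk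
      obtain ⟨e, he⟩ := mem_powers_iff_mem_zpowers.2 hk'
      replace he : S.b ^ e = S.a ^ (s * phi (S.d * phi S.d q) k) := he
      obtain ⟨e', rfl⟩ := hdvd e (he ▸ pow_mem (mem_zpowers _) _)
      rw [pow_mul, hm, ← pow_mul, pow_eq_pow_iff_modEq, hα] at he
      have h1 : p ^ σ ∣ s * phi (S.d * phi S.d q) k :=
        ((he.of_dvd (pow_dvd_pow p hσα.le)).dvd_iff dvd_rfl).1 (Dvd.dvd.mul_right (dvd_mul_right _ _) _)
      exact (pow_dvd_phi_iff hp2 (Dvd.dvd.mul_right S.hd _) σ k).1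
        (((hp.out.coprime_iff_not_dvd.2 hs').pow_left σ).dvd_of_dvd_mul_left h1)
    refine ⟨zpowers S.b, zpowers y, inferInstance, inferInstance, ?_, ?_⟩
    · rw [eq_bot_iff]
      rintro x ⟨hxb, hxy⟩
      obtain ⟨k, hk⟩ := mem_powers_iff_mem_zpowers.2 hxy
      replace hk : y ^ k = x := hk
      obtain ⟨k', rfl⟩ := hinter k (hk ▸ hxb)
      rw [mem_bot, ← hk, pow_mul, hy1, one_pow]
    · have hyord : orderOf y = p ^ σ :=
        Nat.dvd_antisymm (orderOf_dvd_of_pow_eq_one hy1) (hinter _ (by rw [pow_orderOf_eq_one]; exact one_mem _))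
      have hb : orderOf (S.b ^ p ^ β) = p ^ (α - σ) := by
        rw [hm, orderOf_pow, hα]
        have hg : Nat.gcd (p ^ α) (p ^ σ * t) = p ^ σ := by
          rw [mul_comm, Nat.Coprime.gcd_mul_left_cancel_right _ (((hp.out.coprime_iff_not_dvd.2 ht).pow_left α).symm)]
          exact Nat.gcd_eq_right (pow_dvd_pow p hσα.le)
        rw [hg, Nat.pow_div hσα.le hp.out.pos]
      have hdb : p ^ β ∣ orderOf S.b := hdvd _ (by rw [pow_orderOf_eq_one]; exact one_mem _)
      rw [orderOf_pow, Nat.gcd_eq_right hdb] at hb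
      rw [Nat.card_zpowers, Nat.card_zpowers, hyord, hcardG, ← Nat.div_mul_cancel hdb, hb, mul_right_comm,
        ← pow_add p (α - σ), Nat.sub_add_cancel hσα.le]

end Cfsg.Lib.MetaOdd
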