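import Cfsg.Agent.PGroups.MetaOdd.Arith
import Cfsg.Prelude.Def_OddOrderLocal

/-!
A metacyclic `p`-group `G` of odd order mapped onto the plane over `ℤ/pⁿ`, `pⁿ = |G'|`: commuting is vanishing of the
determinant, and the kernel is the centre.
-/

namespace Cfsg.Lib.MetaOdd

open Subgroup
open scoped commutatorElement

variable {G : Type*} [Group G] {p : ℕ} [hp : Fact p.Prime]

/-- Generators of a metacyclic `p`-group. -/
structure Setup (G : Type*) [Group G] (p : ℕ) where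
  a : G
  b : G
  d : ℕ
  n : ℕ
  hd : p ∣ d
  conj : b * a * b⁻¹ = a ^ (1 + d)
  gen : ∀ x : G, ∃ i j : ℕ, x = a ^ i * b ^ j
  hN : orderOf (a ^ d) = p ^ n

theorem exists_setup [Finite G] (hG : IsPGroup p G) (hmc : Cfsg.IsMetacyclic G) : Nonempty (Setup G p) := by
  obtain ⟨N, hNn, hNc, hQc⟩ := hmc
  obtain ⟨a, rfl⟩ := (Subgroup.isCyclic_iff_exists_zpowers_eq_top N).1 hNc
  obtain ⟨q, hq⟩ := hQc.exists_generator
  induction q using QuotientGroup.induction_on with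
  | H b =>
    have hgen : ∀ x : G, ∃ i j : ℕ, x = a ^ i * b ^ j := by
      intro x
      obtain ⟨j, hj⟩ := mem_powers_iff_mem_zpowers.2 (hq (x : G ⧸ zpowers a))
      have hm : x * (b ^ j)⁻¹ ∈ zpowers a := by
        rw [← QuotientGroup.eq_one_iff, QuotientGroup.mk_mul, QuotientGroup.mk_inv, QuotientGroup.mk_pow, mul_inv_eq_one]
        exact hj.symm
      obtain ⟨i, hi⟩ := mem_powers_iff_mem_zpowers.2 hm
      exact ⟨i, j, by rw [show a ^ i = x * (b ^ j)⁻¹ from hi, inv_mul_cancel_right]⟩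
    obtain ⟨r, hr⟩ := mem_powers_iff_mem_zpowers.2 (hNn.conj_mem a (mem_zpowers a) b)
    replace hr : b * a * b⁻¹ = a ^ r := hr.symm
    have hmk : ∀ d : ℕ, p ∣ d → b * a * b⁻¹ = a ^ (1 + d) → Nonempty (Setup G p) := by
      intro d hd hconj
      obtain ⟨n, hn⟩ := IsPGroup.iff_orderOf.1 hG (a ^ d)
      exact ⟨⟨a, b, d, n, hd, hconj, hgen, hn⟩⟩
    by_cases ha : a = 1
    · exact hmk 0 (dvd_zero p) (by rw [ha]; group)
    have hiter : ∀ k : ℕ, b ^ k * a * (b ^ k)⁻¹ = a ^ r ^ k := by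
      intro k
      induction k with
      | zero => simp
      | succ k ih =>
        rw [pow_succ' b, show b * b ^ k * a * (b * b ^ k)⁻¹ = b * (b ^ k * a * (b ^ k)⁻¹) * b⁻¹ by group, ih,
          ← conj_pow, hr, ← pow_mul, pow_succ']
    obtain ⟨e, he⟩ := hG b
    have h1 : a ^ r ^ p ^ e = a ^ 1 := by rw [← hiter, he]; group
    obtain ⟨α, hα⟩ := IsPGroup.iff_orderOf.1 hG a
    have hpα : p ∣ orderOf a := by
      rcases α with _ | α
      · rw [pow_zero, orderOf_eq_one_iff] at hα; exact absurd hα ha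
      · rw [hα]; exact dvd_pow_self p (by omega)
    have hmod : (r : ZMod p) = 1 := by
      have h2 := (pow_eq_pow_iff_modEq.1 h1).of_dvd hpα
      rw [← ZMod.natCast_eq_natCast_iff, Nat.cast_pow, Nat.cast_one, ZMod.pow_card_pow] at h2
      exact h2
    have hr1 : 1 ≤ r := by
      rcases Nat.eq_zero_or_pos r with h | h
      · rw [h, Nat.cast_zero] at hmod; exact absurd hmod zero_ne_one
      · exact h
    refine hmk (r - 1) ?_ (by rw [Nat.add_sub_cancel' hr1]; exact hr)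
    rw [← ZMod.natCast_eq_zero_iff, Nat.cast_sub hr1, hmod, Nat.cast_one, sub_self]

namespace Setup

variable (S : Setup G p)

/-- The generator of the derived subgroup. -/
abbrev c : G := S.a ^ S.d

theorem c_pow_eq_iff {k l : ℕ} : S.c ^ k = S.c ^ l ↔ (k : R p S.n) = l := by
  rw [pow_eq_pow_iff_modEq, S.hN, ZMod.natCast_eq_natCast_iff]

theorem bpow_conj (j : ℕ) : S.b ^ j * S.a * (S.b ^ j)⁻¹ = S.a ^ (1 + S.d) ^ j := by
  induction j with
  | zero => simp
  | succ j ih =>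
    rw [pow_succ' S.b, show S.b * S.b ^ j * S.a * (S.b * S.b ^ j)⁻¹ = S.b * (S.b ^ j * S.a * (S.b ^ j)⁻¹) * S.b⁻¹ by group,
      ih, ← conj_pow, S.conj, ← pow_mul, pow_succ']

theorem bpow_apow (j k : ℕ) : S.b ^ j * S.a ^ k = S.a ^ (k * (1 + S.d) ^ j) * S.b ^ j := by
  rw [mul_comm k, pow_mul, ← bpow_conj, conj_pow, inv_mul_cancel_right]

theorem rep_mul (i j k l : ℕ) :
    S.a ^ i * S.b ^ j * (S.a ^ k * S.b ^ l) = S.a ^ (i + k * (1 + S.d) ^ j) * S.b ^ (j + l) := by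
  rw [show S.a ^ i * S.b ^ j * (S.a ^ k * S.b ^ l) = S.a ^ i * (S.b ^ j * S.a ^ k) * S.b ^ l by group, bpow_apow,
    pow_add, pow_add]
  group

theorem rep_commute (i j k l : ℕ) : Commute (S.a ^ i * S.b ^ j) (S.a ^ k * S.b ^ l) ↔
    (k : R p S.n) * phi S.d j = (i : R p S.n) * phi S.d l := by
  show _ * _ = _ * _ ↔ _
  rw [rep_mul, rep_mul, add_comm l j, mul_right_cancel_iff, pow_eq S.d j, pow_eq S.d l, ← Nat.cast_mul, ← Nat.cast_mul,
    ← S.c_pow_eq_iff, ← pow_mul, ← pow_mul, show i + k * (1 + S.d * phi S.d j) = (i + k) + S.d * (k * phi S.d j) by ring,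
    show k + i * (1 + S.d * phi S.d l) = (i + k) + S.d * (i * phi S.d l) by ring, pow_add (S.a) (i + k), pow_add (S.a) (i + k), mul_right_inj]

theorem conj_apow (x : G) (k : ℕ) : ∃ m : ℕ, x * S.a ^ k * x⁻¹ = S.a ^ m := by
  obtain ⟨i, j, rfl⟩ := S.gen x
  refine ⟨k * (1 + S.d) ^ j, ?_⟩
  rw [mul_inv_rev, show S.a ^ i * S.b ^ j * S.a ^ k * ((S.b ^ j)⁻¹ * (S.a ^ i)⁻¹) =
    S.a ^ i * (S.b ^ j * S.a ^ k) * (S.b ^ j)⁻¹ * (S.a ^ i)⁻¹ by group, bpow_apow]
  group

theorem comm_a (i j : ℕ) : S.a ^ i * S.b ^ j * S.a = S.c ^ phi S.d j * (S.a * (S.a ^ i * S.b ^ j)) := by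
  rw [← pow_mul, ← mul_assoc S.a, ← pow_succ', show S.a ^ i * S.b ^ j * S.a = S.a ^ i * (S.b ^ j * S.a ^ 1) by group,
    bpow_apow, ← mul_assoc, ← pow_add, ← mul_assoc, ← pow_add, one_mul, pow_eq]
  ring_nf

theorem comm_b (i j : ℕ) : S.b * (S.a ^ i * S.b ^ j) = S.c ^ i * (S.a ^ i * S.b ^ j * S.b) := by
  rw [← pow_mul, show S.b * (S.a ^ i * S.b ^ j) = S.b ^ 1 * S.a ^ i * S.b ^ j by group, bpow_apow, pow_one,
    show S.a ^ i * S.b ^ j * S.b = S.a ^ i * (S.b * S.b ^ j) by group, ← mul_assoc (S.a ^ (S.d * i)), ← pow_add,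
    mul_assoc, pow_one]
  ring_nf

/-- The coordinates of an element. -/
noncomputable def P (x : G) : Vec p S.n :=
  ((phi S.d (S.gen x).choose_spec.choose : R p S.n), ((S.gen x).choose : R p S.n))

theorem P_rep {x : G} {i j : ℕ} (h : x = S.a ^ i * S.b ^ j) : S.P x = ((phi S.d j : R p S.n), (i : R p S.n)) := by
  have h' := (S.gen x).choose_spec.choose_spec
  set i' := (S.gen x).choose
  set j' := (S.gen x).choose_spec.choose
  refine Prod.ext (S.c_pow_eq_iff.1 ?_) (S.c_pow_eq_iff.1 ?_)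
  · have e1 := S.comm_a i' j'
    have e2 := S.comm_a i j
    rw [← h'] at e1
    rw [← h] at e2
    exact mul_right_cancel (e1.symm.trans e2)
  · have e1 := S.comm_b i' j'
    have e2 := S.comm_b i j
    rw [← h'] at e1
    rw [← h] at e2
    exact mul_right_cancel (e1.symm.trans e2)

theorem commute_iff (x y : G) : Commute x y ↔ det (S.P x) (S.P y) = 0 := by
  obtain ⟨i, j, rfl⟩ := S.gen x
  obtain ⟨k, l, rfl⟩ := S.gen y
  rw [rep_commute, S.P_rep rfl, S.P_rep rfl, det, sub_eq_zero, mul_comm (k : R p S.n)]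

/-- The multiplier of a vector. -/
def mu (X : Vec p S.n) : R p S.n := 1 + (S.d : R p S.n) * X.1

theorem mu_eq_cast (X : Vec p S.n) : S.mu X = ((1 + S.d * X.1.val : ℕ) : R p S.n) := by
  rw [mu, Nat.cast_add, Nat.cast_one, Nat.cast_mul, ZMod.natCast_zmod_val]

theorem mu_unit (X : Vec p S.n) : IsUnit (S.mu X) := by
  rw [mu_eq_cast]
  exact isUnit_cast (not_dvd_one_add (Dvd.dvd.mul_right S.hd _))

theorem P_mul (x y : G) : S.P (x * y) = S.P x + S.mu (S.P x) • S.P y := by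
  obtain ⟨i, j, rfl⟩ := S.gen x
  obtain ⟨k, l, rfl⟩ := S.gen y
  rw [S.P_rep (rep_mul S i j k l), S.P_rep rfl, S.P_rep rfl, mu]
  ext
  · simp only [Prod.fst_add, Prod.smul_fst, smul_eq_mul]
    rw [phi_add, pow_eq]; push_cast; ring
  · simp only [Prod.snd_add, Prod.smul_snd, smul_eq_mul]
    rw [pow_eq]; push_cast; ring

theorem P_one : S.P 1 = 0 := by
  rw [S.P_rep (i := 0) (j := 0) (by simp), phi_zero, Nat.cast_zero]
  rfl

theorem P_surjective (hp2 : p ≠ 2) (X : Vec p S.n) : ∃ x, S.P x = X := by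
  obtain ⟨j, hj⟩ := phi_cast_surjective hp2 S.hd X.1
  exact ⟨S.a ^ X.2.val * S.b ^ j, by rw [S.P_rep rfl, hj, ZMod.natCast_zmod_val]⟩

theorem P_eq_zero_iff (hp2 : p ≠ 2) (z : G) : S.P z = 0 ↔ z ∈ center G := by
  constructor
  · intro h
    rw [mem_center_iff]
    intro g
    refine ((S.commute_iff g z).2 ?_).eq
    simp [h, det]
  · intro hz
    have key : ∀ w, det (S.P z) (S.P w) = 0 := fun w => (S.commute_iff z w).1 (mem_center_iff.1 hz w).symm
    obtain ⟨u, hu⟩ := S.P_surjective hp2 (0, 1)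
    obtain ⟨v, hv⟩ := S.P_surjective hp2 (1, 0)
    have h1 := key u
    have h2 := key v
    rw [hu] at h1
    rw [hv] at h2
    simp only [det, mul_one, mul_zero, sub_zero, zero_sub, neg_eq_zero] at h1 h2
    exact Prod.ext h1 h2

theorem P_pow (x : G) (k : ℕ) : S.P (x ^ k) = (phi (S.d * (S.P x).1.val) k : R p S.n) • S.P x := by
  induction k with
  | zero => rw [pow_zero, P_one, phi_zero, Nat.cast_zero, zero_smul]
  | succ k ih =>
    rw [pow_succ', P_mul, ih, smul_smul, ← one_add_smul_aux, mu_eq_cast, add_comm k 1, phi_add, phi_one, pow_one]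
    push_cast
    ring_nf
where one_add_smul_aux {s : R p S.n} {X : Vec p S.n} : (1 + s) • X = X + s • X := by rw [add_smul, one_smul]

theorem P_eq_iff (hp2 : p ≠ 2) {x y : G} : S.P x = S.P y ↔ x⁻¹ * y ∈ center G := by
  rw [← S.P_eq_zero_iff hp2]
  constructor
  · intro h
    have h' := S.P_mul x (x⁻¹ * y)
    rw [mul_inv_cancel_left, h, left_eq_add] at h'
    obtain ⟨v, hv⟩ := isUnit_iff_exists_inv.1 (S.mu_unit (S.P y))
    have := congrArg (fun X : Vec p S.n => v • X) h'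
    rwa [smul_zero, smul_smul, mul_comm v, hv, one_smul] at this
  · intro h
    have h' := S.P_mul x (x⁻¹ * y)
    rwa [mul_inv_cancel_left, h, smul_zero, add_zero, eq_comm] at h'

theorem P_image_isMod (hp2 : p ≠ 2) (H : Subgroup G) : IsMod (S.P '' (H : Set G)) := by
  have hs : ∀ (s : R p S.n) {X : Vec p S.n}, X ∈ S.P '' (H : Set G) → s • X ∈ S.P '' (H : Set G) := by
    rintro s _ ⟨x, hx, rfl⟩
    obtain ⟨k, hk⟩ := phi_cast_surjective hp2 (Dvd.dvd.mul_right S.hd (S.P x).1.val) s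
    exact ⟨x ^ k, pow_mem hx k, by rw [S.P_pow, hk]⟩
  refine ⟨⟨1, one_mem _, S.P_one⟩, ?_, hs⟩
  rintro _ _ ⟨x, hx, rfl⟩ hY
  obtain ⟨v, hv⟩ := isUnit_iff_exists_inv.1 (S.mu_unit (S.P x))
  obtain ⟨y, hy, hyv⟩ := hs v hY
  exact ⟨x * y, mul_mem hx hy, by rw [S.P_mul, hyv, smul_smul, hv, one_smul]⟩

end Setup

end Cfsg.Lib.MetaOdd
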